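import Groth.Agent.Lib.FSAdic.Basic
import Mathlib.RingTheory.AdicCompletion.Completeness
import Mathlib.RingTheory.AdicCompletion.Algebra

/-!
# Adic formal smoothness and completion
-/

universe u

namespace Groth.Agent.Lib.FSAdic.Completion

open EGA41 Groth.Agent.Lib.FSAdic.Basic

variable {B : Type u} [CommRing B] {𝔟 : Ideal B}

theorem evalₐ_eq_zero_iff (h : 𝔟.FG) (n : ℕ) (x : AdicCompletion 𝔟 B) :
    AdicCompletion.evalₐ 𝔟 n x = 0 ↔
      x ∈ (𝔟.map (algebraMap B (AdicCompletion 𝔟 B))) ^ n := by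
  have h1 : x ∈ (𝔟.map (algebraMap B (AdicCompletion 𝔟 B))) ^ n ↔
      x ∈ (AdicCompletion.eval 𝔟 B n).ker := by
    rw [← AdicCompletion.pow_smul_top_eq_ker_eval h, Ideal.smul_top_eq_map, ← Ideal.map_pow]
    rfl
  rw [h1, LinearMap.mem_ker]
  have hle : 𝔟 ^ n • ⊤ ≤ 𝔟 ^ n := le_of_eq (by simp)
  rw [← AdicCompletion.factor_eval_eq_evalₐ (x := x) (h := hle)]
  refine map_eq_zero_iff _ ((injective_iff_map_eq_zero _).2 fun y hy => ?_)
  obtain ⟨c, rfl⟩ := Submodule.Quotient.mk_surjective _ y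
  replace hy : (Submodule.Quotient.mk c : B ⧸ (𝔟 ^ n : Submodule B B)) = 0 := hy
  rw [Submodule.Quotient.mk_eq_zero] at hy
  rw [Submodule.Quotient.mk_eq_zero]
  simpa using hy

theorem exists_sub_mem (h : 𝔟.FG) (n : ℕ) (x : AdicCompletion 𝔟 B) :
    ∃ b : B, x - algebraMap B (AdicCompletion 𝔟 B) b ∈
      (𝔟.map (algebraMap B (AdicCompletion 𝔟 B))) ^ n := by
  obtain ⟨b, hb⟩ := Ideal.Quotient.mk_surjective (AdicCompletion.evalₐ 𝔟 n x)
  refine ⟨b, (evalₐ_eq_zero_iff h n _).1 ?_⟩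
  rw [map_sub, AlgHom.commutes, Ideal.Quotient.algebraMap_eq, hb, sub_self]

theorem iff_adicCompletion {A : Type u} [CommRing A] [Algebra A B] (𝔞 : Ideal A) (h : 𝔟.FG) :
    IsFormallySmoothAdic A 𝔞 B 𝔟 ↔
      IsFormallySmoothAdic A 𝔞 (AdicCompletion 𝔟 B)
        (𝔟.map (algebraMap B (AdicCompletion 𝔟 B))) := by
  let ι : B →ₐ[A] AdicCompletion 𝔟 B := IsScalarTower.toAlgHom A B _
  let ev : (n : ℕ) → AdicCompletion 𝔟 B →ₐ[A] B ⧸ 𝔟 ^ n := fun n =>
    (AdicCompletion.evalₐ 𝔟 n).restrictScalars A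
  constructor
  · intro hB C _ _ J hJ ha u ⟨k, hk⟩
    have hu : Kills 𝔟 (u.comp ι) := ⟨k, fun x hx => hk _ (by
      rw [← Ideal.map_pow]; exact Ideal.mem_map_of_mem _ hx)⟩
    obtain ⟨v, hv, m, hm⟩ := exists_lift hB (Ideal.Quotient.mkₐ A J) Ideal.Quotient.mk_surjective
      (by rw [show RingHom.ker (Ideal.Quotient.mkₐ A J).toRingHom = J from Ideal.mk_ker]; exact hJ)
      ha (u.comp ι) hu
    let n := k + m
    let w : B ⧸ 𝔟 ^ n →ₐ[A] C :=
      Ideal.Quotient.liftₐ _ v fun x hx => hm x (Ideal.pow_le_pow_right (by omega) hx)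
    refine ⟨w.comp (ev n), AlgHom.ext fun x => ?_⟩
    obtain ⟨b, hb⟩ := exists_sub_mem h n x
    have h1 : ev n x = Ideal.Quotient.mk _ b := by
      have := (evalₐ_eq_zero_iff h n _).2 hb
      rw [map_sub, AlgHom.commutes, sub_eq_zero] at this
      exact this
    change Ideal.Quotient.mk J (w (ev n x)) = u x
    rw [h1]
    change Ideal.Quotient.mk J (v b) = u x
    rw [show Ideal.Quotient.mk J (v b) = u (ι b) from AlgHom.congr_fun hv b, eq_comm,
      ← sub_eq_zero, ← map_sub]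
    exact hk _ (Ideal.pow_le_pow_right (by omega) hb)
  · intro hB C _ _ J hJ ha u ⟨k, hk⟩
    let w : B ⧸ 𝔟 ^ k →ₐ[A] C ⧸ J := Ideal.Quotient.liftₐ _ u hk
    obtain ⟨v, hv⟩ := hB C J hJ ha (w.comp (ev k)) ⟨k, fun x hx => by
      change w (AdicCompletion.evalₐ 𝔟 k x) = 0
      rw [(evalₐ_eq_zero_iff h k x).2 hx, map_zero]⟩
    refine ⟨v.comp ι, AlgHom.ext fun b => ?_⟩
    have h2 := AlgHom.congr_fun hv (ι b)
    refine h2.trans ?_
    change w (AdicCompletion.evalₐ 𝔟 k (algebraMap B _ b)) = u b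
    rw [AlgHom.commutes]
    rfl

end Groth.Agent.Lib.FSAdic.Completion
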