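import Groth.Prelude.Def_EGA41
import Groth.Prelude.Def_CAlgX
import Mathlib.RingTheory.Smooth.Basic
import Mathlib.RingTheory.AdicCompletion.RingHom

/-!
# Adic formal smoothness: basic lifting lemmas
-/

universe u

namespace Groth.Agent.Lib.FSAdic.Basic

open EGA41

variable {A B : Type u} [CommRing A] [CommRing B] [Algebra A B] {𝔞 : Ideal A} {𝔟 : Ideal B}

/-- Continuity of a map: it kills a power of the ideal. -/
def Kills (𝔟 : Ideal B) {C : Type*} [CommRing C] [Algebra A C] (u : B →ₐ[A] C) : Prop :=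
  ∃ k : ℕ, ∀ x ∈ 𝔟 ^ k, u x = 0

theorem kills_iff {C : Type*} [CommRing C] [Algebra A C] (u : B →ₐ[A] C) :
    Kills 𝔟 u ↔ ∃ k : ℕ, 𝔟 ^ k ≤ RingHom.ker u.toRingHom :=
  ⟨fun ⟨k, hk⟩ => ⟨k, fun x hx => hk x hx⟩, fun ⟨k, hk⟩ => ⟨k, fun _ hx => hk hx⟩⟩

theorem Kills.comp {C D : Type*} [CommRing C] [Algebra A C] [CommRing D] [Algebra A D]
    {u : B →ₐ[A] C} (h : Kills 𝔟 u) (g : C →ₐ[A] D) : Kills 𝔟 (g.comp u) := by
  obtain ⟨k, hk⟩ := h
  exact ⟨k, fun x hx => by simp [hk x hx]⟩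

/-- If the composite with a map with nilpotent kernel is continuous, so is the map. -/
theorem Kills.of_comp {C D : Type*} [CommRing C] [Algebra A C] [CommRing D] [Algebra A D]
    {v : B →ₐ[A] C} (g : C →ₐ[A] D) (hg : IsNilpotent (RingHom.ker g.toRingHom))
    (h : Kills 𝔟 (g.comp v)) : Kills 𝔟 v := by
  obtain ⟨k, hk⟩ := h
  obtain ⟨n, hn⟩ := hg
  refine ⟨k * n, fun x hx => ?_⟩
  rw [pow_mul] at hx
  have h1 : 𝔟 ^ k ≤ (RingHom.ker g.toRingHom).comap v.toRingHom := fun y hy => by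
    simpa [Ideal.mem_comap, RingHom.mem_ker] using hk y hy
  have h2 := Ideal.le_comap_pow (K := RingHom.ker g.toRingHom) v.toRingHom n
    (Ideal.pow_right_mono h1 n hx)
  rw [Ideal.mem_comap, hn] at h2
  simpa using h2

theorem exists_pow_map_eq_bot_quotient {C : Type*} [CommRing C] [Algebra A C] (I : Ideal C)
    (h : ∃ k : ℕ, (𝔞 ^ k).map (algebraMap A C) = ⊥) :
    ∃ k : ℕ, (𝔞 ^ k).map (algebraMap A (C ⧸ I)) = ⊥ := by
  obtain ⟨k, hk⟩ := h
  refine ⟨k, ?_⟩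
  have : algebraMap A (C ⧸ I) = (Ideal.Quotient.mk I).comp (algebraMap A C) := rfl
  rw [this, ← Ideal.map_map, hk, Ideal.map_bot]

/-- Square-zero test ideals suffice. -/
theorem of_sqZero
    (h : ∀ (C : Type u) [CommRing C] [Algebra A C] (J : Ideal C), J ^ 2 = ⊥ →
      (∃ k : ℕ, (𝔞 ^ k).map (algebraMap A C) = ⊥) →
      ∀ u : B →ₐ[A] C ⧸ J, Kills 𝔟 u →
        ∃ v : B →ₐ[A] C, (Ideal.Quotient.mkₐ A J).comp v = u) :
    IsFormallySmoothAdic A 𝔞 B 𝔟 := by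
  intro C _ _ J hJ ha u hu
  suffices ∃ v : B →ₐ[A] C, (Ideal.Quotient.mkₐ A J).comp v = u ∧ Kills 𝔟 v from
    this.imp fun v hv => hv.1
  revert ha u hu
  revert ‹Algebra A C›
  apply Ideal.IsNilpotent.induction_on (S := C) J hJ
  · intro C _ J hJ _ ha u hu
    obtain ⟨v, hv⟩ := h C J hJ ha u hu
    refine ⟨v, hv, Kills.of_comp (Ideal.Quotient.mkₐ A J) ⟨2, ?_⟩ (hv ▸ hu)⟩
    rw [show RingHom.ker (Ideal.Quotient.mkₐ A J).toRingHom = J from Ideal.mk_ker]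
    exact hJ
  · intro C _ I J hIJ h₁ h₂ _ ha u hu
    let e : ((C ⧸ I) ⧸ J.map (Ideal.Quotient.mk I)) ≃ₐ[A] C ⧸ J :=
      { (DoubleQuot.quotQuotEquivQuotSup I J).trans
          (Ideal.quotEquivOfEq (sup_eq_right.mpr hIJ)) with
        commutes' := fun x => rfl }
    obtain ⟨w, hw, hwk⟩ := h₂ (exists_pow_map_eq_bot_quotient I ha) (e.symm.toAlgHom.comp u)
      (Kills.comp hu _)
    obtain ⟨v, hv, hvk⟩ := h₁ ha w hwk
    refine ⟨v, ?_, hvk⟩
    ext x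
    have := congr_arg e (AlgHom.congr_fun hw x)
    rw [← hv] at this
    simp only [AlgHom.comp_apply, AlgEquiv.coe_toAlgHom, AlgEquiv.apply_symm_apply] at this
    exact this

/-- Lifting along a surjection with nilpotent kernel. -/
theorem exists_lift (hB : IsFormallySmoothAdic A 𝔞 B 𝔟) {C D : Type u} [CommRing C] [Algebra A C]
    [CommRing D] [Algebra A D] (g : C →ₐ[A] D) (hg : Function.Surjective g)
    (hker : IsNilpotent (RingHom.ker g.toRingHom))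
    (ha : ∃ k : ℕ, (𝔞 ^ k).map (algebraMap A C) = ⊥) (u : B →ₐ[A] D) (hu : Kills 𝔟 u) :
    ∃ v : B →ₐ[A] C, g.comp v = u ∧ Kills 𝔟 v := by
  let e := Ideal.quotientKerAlgEquivOfSurjective hg
  obtain ⟨v, hv⟩ := hB C _ hker ha (e.symm.toAlgHom.comp u) (Kills.comp hu _)
  have hgv : g.comp v = u := by
    ext x
    have h1 : (Ideal.Quotient.mk _ (v x) : C ⧸ RingHom.ker g.toRingHom) = e.symm (u x) :=
      AlgHom.congr_fun hv x
    have h2 := congr_arg e h1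
    rw [AlgEquiv.apply_symm_apply] at h2
    exact h2
  exact ⟨v, hgv, Kills.of_comp g hker (hgv ▸ hu)⟩

/-- Two maps to `C / I₁` and `C / I₂` agreeing with a common element give a map to `C / (I₁ ⊓ I₂)`. -/
theorem exists_lift_inf {C : Type*} [CommRing C] [Algebra A C] (I₁ I₂ : Ideal C)
    (u₁ : B →ₐ[A] C ⧸ I₁) (u₂ : B →ₐ[A] C ⧸ I₂)
    (h : ∀ b, ∃ c, Ideal.Quotient.mk I₁ c = u₁ b ∧ Ideal.Quotient.mk I₂ c = u₂ b) :
    ∃ u : B →ₐ[A] C ⧸ (I₁ ⊓ I₂), (Ideal.Quotient.factorₐ A inf_le_left).comp u = u₁ ∧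
      (Ideal.Quotient.factorₐ A inf_le_right).comp u = u₂ := by
  let φ : C ⧸ (I₁ ⊓ I₂) →ₐ[A] (C ⧸ I₁) × (C ⧸ I₂) :=
    (Ideal.Quotient.factorₐ A inf_le_left).prod (Ideal.Quotient.factorₐ A inf_le_right)
  have hφ : Function.Injective φ := by
    rw [injective_iff_map_eq_zero]
    intro x hx
    obtain ⟨c, rfl⟩ := Ideal.Quotient.mk_surjective x
    have h1 : Ideal.Quotient.mk I₁ c = 0 := congr_arg Prod.fst hx
    have h2 : Ideal.Quotient.mk I₂ c = 0 := congr_arg Prod.snd hx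
    rw [Ideal.Quotient.eq_zero_iff_mem] at h1 h2 ⊢
    exact ⟨h1, h2⟩
  have hr : ∀ b, (u₁.prod u₂) b ∈ φ.range := fun b => by
    obtain ⟨c, hc1, hc2⟩ := h b
    exact ⟨Ideal.Quotient.mk _ c, Prod.ext hc1 hc2⟩
  let u := (AlgEquiv.ofInjective φ hφ).symm.toAlgHom.comp ((u₁.prod u₂).codRestrict φ.range hr)
  have hu : ∀ b, φ (u b) = (u₁ b, u₂ b) := fun b =>
    congr_arg Subtype.val ((AlgEquiv.ofInjective φ hφ).apply_symm_apply
      ((u₁.prod u₂).codRestrict φ.range hr b))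
  exact ⟨u, AlgHom.ext fun b => congr_arg Prod.fst (hu b),
    AlgHom.ext fun b => congr_arg Prod.snd (hu b)⟩

/-- Lifting into a complete ring (EGA 0_IV 19.3.10). -/
theorem exists_lift_complete (hB : IsFormallySmoothAdic A 𝔞 B 𝔟) {C : Type u} [CommRing C]
    [Algebra A C] (𝔠 : Ideal C) [IsAdicComplete 𝔠 C]
    (hAC : ∃ k : ℕ, (𝔞 ^ k).map (algebraMap A C) ≤ 𝔠)
    (J : Ideal C) (hJ : ∃ t : ℕ, J ^ t ≤ 𝔠) [IsHausdorff (𝔠.map (Ideal.Quotient.mk J)) (C ⧸ J)]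
    (u : B →ₐ[A] C ⧸ J) (hu : ∃ k : ℕ, (𝔟 ^ k).map u.toRingHom ≤ 𝔠.map (Ideal.Quotient.mk J)) :
    ∃ v : B →ₐ[A] C, (∃ k : ℕ, (𝔟 ^ k).map v.toRingHom ≤ 𝔠) ∧
      (Ideal.Quotient.mkₐ A J).comp v = u := by
  obtain ⟨ka, hka⟩ := hAC
  obtain ⟨kb, hkb⟩ := hu
  -- `u` modulo `J ⊔ 𝔠 ^ n`
  let w : (n : ℕ) → B →ₐ[A] C ⧸ (J ⊔ 𝔠 ^ n) := fun n =>
    (Ideal.Quotient.factorₐ A le_sup_left).comp u
  have hw : ∀ n, Kills 𝔟 (w n) := fun n => by
    refine ⟨kb * n, fun x hx => ?_⟩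
    rw [pow_mul] at hx
    have h1 : u x ∈ (𝔠 ^ n).map (Ideal.Quotient.mk J) := by
      rw [Ideal.map_pow]
      refine Ideal.pow_right_mono hkb n ?_
      rw [← Ideal.map_pow]
      exact Ideal.mem_map_of_mem u.toRingHom hx
    obtain ⟨c, hc, hc'⟩ := (Ideal.mem_map_iff_of_surjective _ Ideal.Quotient.mk_surjective).1 h1
    change Ideal.Quotient.factorₐ A (le_sup_left : J ≤ J ⊔ 𝔠 ^ n) (u x) = 0
    rw [← hc']
    exact Ideal.Quotient.eq_zero_iff_mem.2 (Ideal.mem_sup_right hc)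
  let P : (n : ℕ) → (B →ₐ[A] C ⧸ 𝔠 ^ n) → Prop := fun n v =>
    Kills 𝔟 v ∧ (Ideal.Quotient.factorₐ A (le_sup_right : 𝔠 ^ n ≤ J ⊔ 𝔠 ^ n)).comp v = w n
  have step : ∀ n v, P n v → ∃ v', P (n + 1) v' ∧
      (Ideal.Quotient.factorₐ A (Ideal.pow_le_pow_right n.le_succ)).comp v' = v := by
    rintro n v ⟨hv, hvw⟩
    have hle : 𝔠 ^ (n + 1) ≤ 𝔠 ^ n ⊓ (J ⊔ 𝔠 ^ (n + 1)) :=
      le_inf (Ideal.pow_le_pow_right n.le_succ) le_sup_right
    obtain ⟨t, ht1, ht2⟩ := exists_lift_inf (𝔠 ^ n) (J ⊔ 𝔠 ^ (n + 1)) v (w (n + 1)) (fun b => by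
      obtain ⟨c1, hc1⟩ := Ideal.Quotient.mk_surjective (v b)
      obtain ⟨c2, hc2⟩ := Ideal.Quotient.mk_surjective (u b)
      have h1 := AlgHom.congr_fun hvw b
      simp only [w, AlgHom.comp_apply, ← hc1, ← hc2] at h1
      have h1' : c2 - c1 ∈ J ⊔ 𝔠 ^ n := (Ideal.Quotient.mk_eq_mk_iff_sub_mem _ _).1 h1.symm
      obtain ⟨j, hj, e, he, hje⟩ := Submodule.mem_sup.1 h1'
      refine ⟨c1 + e, ?_, ?_⟩
      · rw [← hc1, Ideal.Quotient.mk_eq_mk_iff_sub_mem]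
        simpa using he
      · change _ = Ideal.Quotient.factorₐ A (le_sup_left : J ≤ J ⊔ 𝔠 ^ (n + 1)) (u b)
        rw [← hc2]
        refine (Ideal.Quotient.mk_eq_mk_iff_sub_mem _ _).2 (Ideal.mem_sup_left ?_)
        have : c1 + e - c2 = -j := by linear_combination hje
        rw [this]
        exact neg_mem hj)
    have htk : Kills 𝔟 t := by
      obtain ⟨k1, hk1⟩ := hv
      obtain ⟨k2, hk2⟩ := hw (n + 1)
      refine ⟨k1 + k2, fun x hx => ?_⟩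
      obtain ⟨c, hc⟩ := Ideal.Quotient.mk_surjective (t x)
      have e1 := AlgHom.congr_fun ht1 x
      have e2 := AlgHom.congr_fun ht2 x
      rw [hk1 x (Ideal.pow_le_pow_right (by omega) hx)] at e1
      rw [hk2 x (Ideal.pow_le_pow_right (by omega) hx)] at e2
      simp only [AlgHom.comp_apply, ← hc] at e1 e2
      rw [← hc, Ideal.Quotient.eq_zero_iff_mem]
      exact ⟨Ideal.Quotient.eq_zero_iff_mem.1 e1, Ideal.Quotient.eq_zero_iff_mem.1 e2⟩
    have hsurj : Function.Surjective (Ideal.Quotient.factorₐ A hle) :=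
      Ideal.Quotient.factor_surjective hle
    have hnil : IsNilpotent (RingHom.ker (Ideal.Quotient.factorₐ A hle).toRingHom) := by
      obtain ⟨s, hs⟩ := hJ
      have key : (𝔠 ^ n ⊓ (J ⊔ 𝔠 ^ (n + 1))) ^ ((s + 1) * (n + 1)) ≤ 𝔠 ^ (n + 1) := by
        rw [pow_mul]
        refine Ideal.pow_right_mono ?_ _
        refine (Ideal.pow_right_mono (inf_le_right.trans
          (sup_le_sup le_rfl (Ideal.pow_le_self n.succ_ne_zero))) _).trans ?_
        refine (Ideal.sup_pow_add_le_pow_sup_pow (n := s) (m := 1)).trans ?_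
        exact sup_le hs (by simp)
      refine ⟨(s + 1) * (n + 1), ?_⟩
      rw [show RingHom.ker (Ideal.Quotient.factorₐ A hle).toRingHom =
          RingHom.ker (Ideal.Quotient.factor hle) from rfl, Ideal.Quotient.factor_ker,
        ← Ideal.map_pow]
      exact Ideal.map_eq_bot_iff_le_ker _ |>.2 (key.trans Ideal.mk_ker.ge)
    obtain ⟨v', hv', hv'k⟩ := exists_lift hB _ hsurj hnil
      ⟨ka * (n + 1), by
        have : algebraMap A (C ⧸ 𝔠 ^ (n + 1)) = (Ideal.Quotient.mk _).comp (algebraMap A C) := rfl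
        rw [this, ← Ideal.map_map, Ideal.map_eq_bot_iff_le_ker, Ideal.mk_ker, pow_mul,
          Ideal.map_pow]
        exact Ideal.pow_right_mono hka _⟩ t htk
    refine ⟨v', ⟨hv'k, ?_⟩, ?_⟩
    · rw [← ht2, ← hv', ← AlgHom.comp_assoc, Ideal.Quotient.factorₐ_comp]
    · rw [← ht1, ← hv', ← AlgHom.comp_assoc, Ideal.Quotient.factorₐ_comp]
  have base : ∃ v, P 0 v := by
    haveI : Subsingleton (C ⧸ 𝔠 ^ 0) := by simp [Ideal.Quotient.subsingleton_iff]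
    haveI : Subsingleton (C ⧸ (J ⊔ 𝔠 ^ 0)) := by simp [Ideal.Quotient.subsingleton_iff]
    exact ⟨default, ⟨0, fun x _ => Subsingleton.elim _ _⟩, Subsingleton.elim _ _⟩
  choose next hnext hcompat using step
  obtain ⟨v0, hv0⟩ := base
  let seq : (n : ℕ) → {v // P n v} := fun n =>
    Nat.rec ⟨v0, hv0⟩ (fun m v => ⟨next m v.1 v.2, hnext m v.1 v.2⟩) n
  have hf : ∀ {m n : ℕ} (hle : m ≤ n),
      (Ideal.Quotient.factorₐ A (Ideal.pow_le_pow_right hle)).comp (seq n).1 = (seq m).1 := by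
    intro m n hle
    induction n, hle using Nat.le_induction with
    | base => simp
    | succ n hmn ih =>
      rw [← Ideal.Quotient.factorₐ_comp _ (Ideal.pow_le_pow_right n.le_succ)
        (Ideal.pow_le_pow_right hmn), AlgHom.comp_assoc, hcompat n (seq n).1 (seq n).2, ih]
  let v := IsAdicComplete.liftAlgHom 𝔠 (fun n => (seq n).1) hf
  refine ⟨v, ?_, ?_⟩
  · obtain ⟨k, hk⟩ := (seq 1).2.1
    refine ⟨k, Ideal.map_le_iff_le_comap.2 fun x hx => ?_⟩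
    have := hk x hx
    rw [← IsAdicComplete.mk_liftAlgHom 𝔠 (fun n => (seq n).1) hf 1 x,
      Ideal.Quotient.eq_zero_iff_mem, pow_one] at this
    exact this
  · ext b
    change Ideal.Quotient.mk J (v b) = u b
    refine IsHausdorff.eq_iff_smodEq (I := 𝔠.map (Ideal.Quotient.mk J)) |>.2 fun n => ?_
    rw [SModEq.sub_mem, smul_eq_mul, Ideal.mul_top, ← Ideal.map_pow]
    obtain ⟨c, hc⟩ := Ideal.Quotient.mk_surjective (u b)
    have h1 := AlgHom.congr_fun (seq n).2.2 b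
    rw [AlgHom.comp_apply, ← IsAdicComplete.mk_liftAlgHom 𝔠 (fun n => (seq n).1) hf n b] at h1
    simp only [w, AlgHom.comp_apply, ← hc] at h1
    have h1' : v b - c ∈ J ⊔ 𝔠 ^ n := (Ideal.Quotient.mk_eq_mk_iff_sub_mem _ _).1 h1
    rw [← hc, ← map_sub]
    have h2 := Ideal.mem_map_of_mem (Ideal.Quotient.mk J) h1'
    rwa [Ideal.map_sup, Ideal.map_quotient_self, bot_sup_eq] at h2

theorem isFormallySmoothAdic_bot_iff {𝔫 : Ideal B} :
    CAlgX.IsAdicFormallySmooth A B 𝔫 ↔ IsFormallySmoothAdic A ⊥ B 𝔫 := by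
  constructor
  · intro h
    exact of_sqZero fun C _ _ J hJ _ u hu => h C J hJ u hu
  · intro h C _ _ J hJ u hu
    exact h C J ⟨2, hJ⟩ ⟨1, by simp⟩ u hu

theorem of_formallySmooth [Algebra.FormallySmooth A B] : IsFormallySmoothAdic A 𝔞 B 𝔟 :=
  fun _ _ _ _ hJ _ u _ => Algebra.FormallySmooth.exists_lift _ hJ u

end Groth.Agent.Lib.FSAdic.Basic
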