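import Groth.Agent.Lib.FSAdic.Basic
import Mathlib.Algebra.TrivSqZeroExt.Basic
import Mathlib.RingTheory.Kaehler.Basic
import Mathlib.Algebra.Module.Projective
import Mathlib.LinearAlgebra.TensorProduct.Tower
import Mathlib.RingTheory.TensorProduct.Basic

/-!
# Differentials of an adically formally smooth algebra
-/

universe u

namespace Groth.Agent.Lib.FSAdic.Kaehler

open EGA41 Groth.Agent.Lib.FSAdic.Basic TensorProduct

variable {A B : Type u} [CommRing A] [CommRing B] [Algebra A B] {𝔞 : Ideal A} {𝔟 : Ideal B}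

/-- Derivations into a quotient of a module killed by an open ideal lift. -/
theorem exists_lift_derivation (h : IsFormallySmoothAdic A 𝔞 B 𝔟)
    (hAB : ∃ k : ℕ, (𝔞 ^ k).map (algebraMap A B) ≤ 𝔟) (𝔄 : Ideal B) (h𝔄 : ∃ n : ℕ, 𝔟 ^ n ≤ 𝔄)
    (P Q : Type u) [AddCommGroup P] [Module (B ⧸ 𝔄) P] [Module B P] [Module A P]
    [IsScalarTower B (B ⧸ 𝔄) P] [IsScalarTower A B P]
    [AddCommGroup Q] [Module (B ⧸ 𝔄) Q] [Module B Q] [Module A Q]
    [IsScalarTower B (B ⧸ 𝔄) Q] [IsScalarTower A B Q]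
    (g : P →ₗ[B ⧸ 𝔄] Q) (hg : Function.Surjective g) (D : Derivation A B Q) :
    ∃ D' : Derivation A B P, ∀ b, g (D' b) = D b := by
  letI : Module (B ⧸ 𝔄)ᵐᵒᵖ P :=
    Module.compHom P (RingEquiv.toOpposite (B ⧸ 𝔄)).symm.toRingHom
  haveI : IsCentralScalar (B ⧸ 𝔄) P := ⟨fun _ _ => rfl⟩
  letI : Module (B ⧸ 𝔄)ᵐᵒᵖ Q :=
    Module.compHom Q (RingEquiv.toOpposite (B ⧸ 𝔄)).symm.toRingHom
  haveI : IsCentralScalar (B ⧸ 𝔄) Q := ⟨fun _ _ => rfl⟩
  letI algP : Algebra A (TrivSqZeroExt (B ⧸ 𝔄) P) :=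
    ((TrivSqZeroExt.inlHom (B ⧸ 𝔄) P).comp (algebraMap A (B ⧸ 𝔄))).toAlgebra
  letI algQ : Algebra A (TrivSqZeroExt (B ⧸ 𝔄) Q) :=
    ((TrivSqZeroExt.inlHom (B ⧸ 𝔄) Q).comp (algebraMap A (B ⧸ 𝔄))).toAlgebra
  have smulQ : ∀ (b : B) (q : Q), (Ideal.Quotient.mk 𝔄 b) • q = b • q := fun b q =>
    (IsScalarTower.algebraMap_smul (B ⧸ 𝔄) b q)
  have smulP : ∀ (b : B) (q : P), (Ideal.Quotient.mk 𝔄 b) • q = b • q := fun b q =>
    (IsScalarTower.algebraMap_smul (B ⧸ 𝔄) b q)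
  let u : B →ₐ[A] TrivSqZeroExt (B ⧸ 𝔄) Q :=
    { toFun := fun b => TrivSqZeroExt.inl (Ideal.Quotient.mk 𝔄 b) + TrivSqZeroExt.inr (D b)
      map_one' := by ext <;> simp
      map_mul' := fun x y => by
        refine TrivSqZeroExt.ext ?_ ?_
        · simp
        · simp only [TrivSqZeroExt.snd_add, TrivSqZeroExt.snd_inl, TrivSqZeroExt.snd_inr, zero_add,
            TrivSqZeroExt.snd_mul, TrivSqZeroExt.fst_add, TrivSqZeroExt.fst_inl,
            TrivSqZeroExt.fst_inr, add_zero, op_smul_eq_smul, smulQ, Derivation.leibniz]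
      map_zero' := by ext <;> simp
      map_add' := fun x y => by ext <;> simp
      commutes' := fun a => by
        refine TrivSqZeroExt.ext ?_ ?_
        · simp [algQ, RingHom.algebraMap_toAlgebra]
        · simp [algQ, RingHom.algebraMap_toAlgebra] }
  let π : TrivSqZeroExt (B ⧸ 𝔄) P →ₐ[A] TrivSqZeroExt (B ⧸ 𝔄) Q :=
    { toFun := fun x => TrivSqZeroExt.inl x.fst + TrivSqZeroExt.inr (g x.snd)
      map_one' := by ext <;> simp
      map_mul' := fun x y => by ext <;> simp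
      map_zero' := by ext <;> simp
      map_add' := fun x y => by ext <;> simp
      commutes' := fun a => by
        refine TrivSqZeroExt.ext ?_ ?_ <;>
          simp [algP, algQ, RingHom.algebraMap_toAlgebra] }
  have hπ : Function.Surjective π := fun x => by
    obtain ⟨p, hp⟩ := hg x.snd
    exact ⟨TrivSqZeroExt.inl x.fst + TrivSqZeroExt.inr p, TrivSqZeroExt.ext (by simp [π])
      (by simp [π, hp])⟩
  have hker : IsNilpotent (RingHom.ker π.toRingHom) := by
    refine ⟨2, ?_⟩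
    rw [pow_two]
    refine le_bot_iff.1 (Ideal.mul_le.2 fun x hx y hy => ?_)
    have hx' : x.fst = 0 := by
      have := congr_arg TrivSqZeroExt.fst (show π x = 0 from hx)
      simpa [π] using this
    have hy' : y.fst = 0 := by
      have := congr_arg TrivSqZeroExt.fst (show π y = 0 from hy)
      simpa [π] using this
    exact TrivSqZeroExt.ext (by simp [hx']) (by simp [hx', hy'])
  obtain ⟨n, hn⟩ := h𝔄
  obtain ⟨k, hk⟩ := hAB
  have ha : ∀ a ∈ 𝔞 ^ (k * n), algebraMap A (B ⧸ 𝔄) a = 0 := fun a ha => by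
    rw [pow_mul] at ha
    refine Ideal.Quotient.eq_zero_iff_mem.2 (hn (Ideal.pow_right_mono hk n ?_))
    rw [← Ideal.map_pow]
    exact Ideal.mem_map_of_mem _ ha
  have hu : Kills 𝔟 u := by
    refine ⟨n * 2, fun x hx => ?_⟩
    rw [pow_mul] at hx
    have hle : 𝔟 ^ n ≤ (RingHom.ker (TrivSqZeroExt.fstHom (B ⧸ 𝔄) (B ⧸ 𝔄) Q).toRingHom).comap u.toRingHom :=
      fun y hy => by
        simp [Ideal.mem_comap, u, Ideal.Quotient.eq_zero_iff_mem.2 (hn hy)]
    have h2 := Ideal.le_comap_pow _ 2 (Ideal.pow_right_mono hle 2 hx)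
    have h3 : RingHom.ker (TrivSqZeroExt.fstHom (B ⧸ 𝔄) (B ⧸ 𝔄) Q).toRingHom ^ 2 = ⊥ := by
      rw [pow_two]
      refine le_bot_iff.1 (Ideal.mul_le.2 fun a ha b hb => ?_)
      have ha' : a.fst = 0 := ha
      have hb' : b.fst = 0 := hb
      exact TrivSqZeroExt.ext (by simp [ha']) (by simp [ha', hb'])
    rw [Ideal.mem_comap, h3] at h2
    exact h2
  obtain ⟨v, hv, -⟩ := exists_lift h π hπ hker ⟨k * n, by
    rw [Ideal.map_eq_bot_iff_le_ker]
    intro a ha'
    simp [RingHom.mem_ker, algP, RingHom.algebraMap_toAlgebra, ha a ha']⟩ u hu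
  have hfst : ∀ b, (v b).fst = Ideal.Quotient.mk 𝔄 b := fun b => by
    have := congr_arg TrivSqZeroExt.fst (AlgHom.congr_fun hv b)
    simpa [π, u] using this
  refine ⟨Derivation.mk'
    { toFun := fun b => (v b).snd
      map_add' := fun x y => by simp
      map_smul' := fun a x => by
        simp only [RingHom.id_apply]
        rw [Algebra.smul_def, map_mul, v.commutes, TrivSqZeroExt.snd_mul, op_smul_eq_smul, hfst]
        simp only [algP, RingHom.algebraMap_toAlgebra, RingHom.coe_comp, Function.comp_apply,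
          TrivSqZeroExt.inlHom_apply, TrivSqZeroExt.snd_inl, smul_zero, add_zero,
          TrivSqZeroExt.fst_inl]
        rw [IsScalarTower.algebraMap_apply A B (B ⧸ 𝔄), Ideal.Quotient.algebraMap_eq, smulP,
          IsScalarTower.algebraMap_smul] }
    (fun x y => ?_), fun b => ?_⟩
  · change (v (x * y)).snd = x • (v y).snd + y • (v x).snd
    rw [map_mul, TrivSqZeroExt.snd_mul, op_smul_eq_smul, hfst, hfst, smulP, smulP]
  · have := congr_arg TrivSqZeroExt.snd (AlgHom.congr_fun hv b)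
    simpa [π, u] using this

/-- `(B ⧸ 𝔄) ⊗ Ω[B⁄A]` is projective for open `𝔄`. -/
theorem projective_kaehler (h : IsFormallySmoothAdic A 𝔞 B 𝔟)
    (hAB : ∃ k : ℕ, (𝔞 ^ k).map (algebraMap A B) ≤ 𝔟) (𝔄 : Ideal B) (h𝔄 : ∃ n : ℕ, 𝔟 ^ n ≤ 𝔄) :
    Module.Projective (B ⧸ 𝔄) ((B ⧸ 𝔄) ⊗[B] Ω[B⁄A]) := by
  refine Module.Projective.of_lifting_property (R := B ⧸ 𝔄) fun {P Q} _ _ _ _ f g hf => ?_
  letI : Module B P := Module.compHom P (Ideal.Quotient.mk 𝔄)
  letI : Module B Q := Module.compHom Q (Ideal.Quotient.mk 𝔄)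
  letI : Module A P := Module.compHom P (algebraMap A B)
  letI : Module A Q := Module.compHom Q (algebraMap A B)
  haveI : IsScalarTower B (B ⧸ 𝔄) P := IsScalarTower.of_algebraMap_smul fun _ _ => rfl
  haveI : IsScalarTower B (B ⧸ 𝔄) Q := IsScalarTower.of_algebraMap_smul fun _ _ => rfl
  haveI : IsScalarTower A B P := IsScalarTower.of_algebraMap_smul fun _ _ => rfl
  haveI : IsScalarTower A B Q := IsScalarTower.of_algebraMap_smul fun _ _ => rfl
  let L : Ω[B⁄A] →ₗ[B] Q := (g.restrictScalars B) ∘ₗ (TensorProduct.mk B (B ⧸ 𝔄) Ω[B⁄A] 1)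
  obtain ⟨D', hD'⟩ := exists_lift_derivation h hAB 𝔄 h𝔄 P Q f hf
    (L.compDer (KaehlerDifferential.D A B))
  refine ⟨D'.liftKaehlerDifferential.liftBaseChange (B ⧸ 𝔄), ?_⟩
  have h2 : (f.restrictScalars B) ∘ₗ D'.liftKaehlerDifferential = L :=
    Derivation.liftKaehlerDifferential_unique _ _ (Derivation.ext fun b => by simpa using hD' b)
  refine TensorProduct.AlgebraTensorModule.ext fun x ω => ?_
  have h3 := LinearMap.congr_fun h2 ω
  simp only [LinearMap.comp_apply, LinearMap.restrictScalars_apply, L, TensorProduct.mk_apply] at h3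
  rw [LinearMap.comp_apply, LinearMap.liftBaseChange_tmul, map_smul, h3, ← map_smul,
    TensorProduct.smul_tmul', smul_eq_mul, mul_one]

end Groth.Agent.Lib.FSAdic.Kaehler
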