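import Groth.Agent.Lib.FSAdic.Basic
import Mathlib.RingTheory.MvPowerSeries.Equiv
import Mathlib.RingTheory.AdicCompletion.Completeness

/-!
# Adic formal smoothness of power series rings
-/

universe u

namespace Groth.Agent.Lib.FSAdic.PowerSeries

open EGA41 MvPowerSeries Groth.Agent.Lib.FSAdic.Basic

variable {A : Type u} [CommRing A] {σ : Type} [Finite σ]

theorem mem_of_map_mem {R S : Type*} [CommRing R] [CommRing S] (e : R ≃+* S) {I : Ideal R}
    {x : R} (h : e x ∈ I.map e) : x ∈ I := by
  obtain ⟨g, hg, hg'⟩ := (Ideal.mem_map_iff_of_surjective e e.surjective).1 h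
  rwa [← e.injective hg']

theorem sub_truncTotal_mem (f : MvPowerSeries σ A) (n : ℕ) :
    f - ((truncTotal n f : MvPolynomial σ A) : MvPowerSeries σ A) ∈
      (Ideal.span (Set.range X) : Ideal (MvPowerSeries σ A)) ^ n := by
  let e := toAdicCompletionAlgEquiv σ A
  let I := MvPolynomial.idealOfVars σ A
  have hmap : Ideal.map e.toRingEquiv (Ideal.span (Set.range X)) =
      I.map (algebraMap _ (AdicCompletion I (MvPolynomial σ A))) := by
    simp_rw [I, Ideal.map_span, ← Set.range_comp]
    congr 2; ext1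
    simp [e, AdicCompletion.algebraMap_apply, ← MvPolynomial.coe_X, toAdicCompletion_coe]
  have h1 : e.toRingEquiv (f - ((truncTotal n f : MvPolynomial σ A) : MvPowerSeries σ A)) ∈
      I.map (algebraMap _ (AdicCompletion I (MvPolynomial σ A))) ^ n := by
    rw [← Ideal.map_pow]
    have hk : e (f - ((truncTotal n f : MvPolynomial σ A) : MvPowerSeries σ A)) ∈
        (AdicCompletion.eval I (MvPolynomial σ A) n).ker := by
      rw [LinearMap.mem_ker, map_sub, map_sub, sub_eq_zero, AdicCompletion.eval_apply,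
        AdicCompletion.eval_apply]
      simp only [e, toAdicCompletionAlgEquiv_apply, toAdicCompletion_apply_eq_mk_truncTotal]
      refine (Ideal.Quotient.mk_eq_mk_iff_sub_mem _ _).2 ?_
      rw [smul_eq_mul, Ideal.mul_top]
      refine (MvPolynomial.mem_pow_idealOfVars_iff' n _).mpr fun x hx => ?_
      simp [coeff_truncTotal _ hx]
    rw [← AdicCompletion.pow_smul_top_eq_ker_eval (MvPolynomial.idealOfVars_fg σ A),
      Ideal.smul_top_eq_map] at hk
    exact hk
  rw [← hmap, ← Ideal.map_pow] at h1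
  exact mem_of_map_mem e.toRingEquiv h1

theorem isFormallySmoothAdic (𝔞 : Ideal A) (𝔟 : Ideal (MvPowerSeries σ A))
    (h𝔟 : ∀ i, X i ∈ 𝔟) : IsFormallySmoothAdic A 𝔞 (MvPowerSeries σ A) 𝔟 := by
  intro C _ _ J hJ _ u ⟨k, hk⟩
  choose c hc using fun i => Ideal.Quotient.mk_surjective (u (X i))
  let p : MvPolynomial σ A →ₐ[A] C := MvPolynomial.aeval c
  have hup : ∀ g : MvPolynomial σ A, Ideal.Quotient.mk J (p g) = u g := fun g => by
    have : (Ideal.Quotient.mkₐ A J).comp p =
        u.comp (MvPolynomial.coeToMvPowerSeries.algHom A) := by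
      ext i
      simp [p, hc, MvPolynomial.coeToMvPowerSeries.algHom_apply]
    have h := AlgHom.congr_fun this g
    simpa [MvPolynomial.coeToMvPowerSeries.algHom_apply] using h
  -- `p` kills a power of the ideal of variables
  obtain ⟨m, hm⟩ := hJ
  have hp : MvPolynomial.idealOfVars σ A ^ (k * m) ≤ RingHom.ker p.toRingHom := by
    rw [pow_mul]
    have h1 : MvPolynomial.idealOfVars σ A ^ k ≤ J.comap p.toRingHom := by
      intro g hg
      rw [Ideal.mem_comap, ← Ideal.Quotient.eq_zero_iff_mem]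
      refine (hup g).trans (hk _ ?_)
      have h2 : (MvPolynomial.idealOfVars σ A).map (MvPolynomial.coeToMvPowerSeries.ringHom) ≤
          𝔟 := by
        rw [Ideal.map_span, Ideal.span_le]
        rintro _ ⟨_, ⟨i, rfl⟩, rfl⟩
        simpa using h𝔟 i
      refine Ideal.pow_right_mono h2 k ?_
      rw [← Ideal.map_pow]
      exact Ideal.mem_map_of_mem MvPolynomial.coeToMvPowerSeries.ringHom hg
    refine (Ideal.pow_right_mono h1 m).trans ((Ideal.le_comap_pow _ m).trans ?_)
    rw [hm]
    exact le_rfl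
  let N := k * m + k
  let q : MvPolynomial σ A ⧸ MvPolynomial.idealOfVars σ A ^ N →ₐ[A] C :=
    Ideal.Quotient.liftₐ _ p fun g hg => hp (Ideal.pow_le_pow_right (by omega) hg)
  let v : MvPowerSeries σ A →ₐ[A] C := q.comp ((truncTotalAlgHom σ A N).restrictScalars A)
  refine ⟨v, AlgHom.ext fun f => ?_⟩
  change Ideal.Quotient.mk J (p (truncTotal N f)) = u f
  rw [hup, ← sub_eq_zero, ← map_sub, ← neg_sub, map_neg, neg_eq_zero]
  refine hk _ (Ideal.pow_le_pow_right (m := k) (n := N) (by omega)
    (Ideal.pow_right_mono ?_ N (sub_truncTotal_mem f N)))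
  rw [Ideal.span_le]
  rintro _ ⟨i, rfl⟩
  exact h𝔟 i

end Groth.Agent.Lib.FSAdic.PowerSeries
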