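import Mathlib.RingTheory.LocalRing.Module
import Mathlib.RingTheory.Nilpotent.Defs

/-!
# Flat modules over a local ring with nilpotent maximal ideal are free
-/

universe u v

namespace Groth.Agent.Lib.FSAdic.FreeNil

open IsLocalRing TensorProduct

variable {R : Type u} [CommRing R] [IsLocalRing R] {M : Type u} [AddCommGroup M] [Module R M]

theorem eq_top_of_sup_smul_eq_top {I : Ideal R} (hI : IsNilpotent I) (N : Submodule R M)
    (h : N ⊔ I • ⊤ = ⊤) : N = ⊤ := by
  obtain ⟨n, hn⟩ := hI
  have : ∀ j, N ⊔ (I ^ j) • (⊤ : Submodule R M) = ⊤ := fun j => by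
    induction j with
    | zero => simp
    | succ j ih =>
      apply top_unique
      conv_lhs => rw [← h]
      conv_lhs => rw [← ih, Submodule.smul_sup, ← sup_assoc, ← mul_smul, ← pow_succ']
      exact sup_le_sup (sup_le le_rfl Submodule.smul_le_right) le_rfl
  simpa [hn] using this n

theorem free_of_flat [Module.Flat R M] (hm : IsNilpotent (maximalIdeal R)) : Module.Free R M := by
  let k := ResidueField R
  let w := Module.Free.chooseBasis k (k ⊗[R] M)
  have hsurj : Function.Surjective (TensorProduct.mk R k M 1) :=
    TensorProduct.mk_surjective R M k Ideal.Quotient.mk_surjective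
  obtain ⟨v, hv⟩ := hsurj.comp_left w
  replace hv : TensorProduct.mk R k M 1 ∘ v = w := hv
  have hli : LinearIndependent R v := by
    refine Module.IsLocalRing.linearIndependent_of_flat v ?_
    rw [hv]
    exact w.linearIndependent
  refine Module.Free.of_basis (Module.Basis.mk hli ?_)
  refine top_le_iff.2 (eq_top_of_sup_smul_eq_top hm _ (top_le_iff.1 fun x _ => ?_))
  have hx : (1 : k) ⊗ₜ[R] x ∈ (Submodule.span R (Set.range v)).map (TensorProduct.mk R k M 1) := by
    rw [Submodule.map_span, ← Set.range_comp, hv]
    have h2 : Submodule.span R (Set.range w) =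
        (Submodule.span k (Set.range w)).restrictScalars R :=
      (Submodule.restrictScalars_span R k Ideal.Quotient.mk_surjective _).symm
    rw [h2, w.span_eq]
    exact Submodule.mem_top
  obtain ⟨n, hn, hn'⟩ := hx
  have h3 : x - n ∈ (TensorProduct.mk R k M 1).ker := by
    rw [LinearMap.mem_ker, map_sub, hn']
    simp
  replace h3 : x - n ∈ maximalIdeal R • (⊤ : Submodule R M) := (LinearMap.ker_tensorProductMk (I := maximalIdeal R) (Q := M)).le h3
  exact Submodule.mem_sup.2 ⟨n, hn, x - n, h3, add_sub_cancel _ _⟩

end Groth.Agent.Lib.FSAdic.FreeNil
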